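import Groth.Prelude.Def_SGA4a
import Mathlib.CategoryTheory.Sites.Subsheaf
import Mathlib.CategoryTheory.Sites.LeftExact
import Mathlib.CategoryTheory.Sites.LocallySurjective
import Mathlib.CategoryTheory.Sites.LocallyInjective
import Mathlib.CategoryTheory.Sites.Limits
import Mathlib.CategoryTheory.Limits.Types.Pullbacks
import Mathlib.CategoryTheory.Limits.Preserves.Shapes.Pullbacks
import Mathlib.CategoryTheory.Adjunction.Limits

/-!
A left exact functor between sheaf topoi preserving epimorphic families is an inverse image.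
-/

set_option autoImplicit false
set_option linter.style.haveILetI false
set_option backward.defeqAttrib.useBackward true
set_option backward.isDefEq.respectTransparency false

universe u u'

open CategoryTheory CategoryTheory.Limits Opposite

namespace Groth.Agent.SheafTopos.InverseImage

variable {D : Type u} [SmallCategory D] {K : GrothendieckTopology D}

/-- A jointly epimorphic family of sheaves of sets is locally jointly surjective. -/
theorem locally_surjective_of_isEpiFamily {ι : Type u'} {H : Sheaf K (Type u)} {G : ι → Sheaf K (Type u)}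
    (g : ∀ i, G i ⟶ H) (hg : SGA4.IsEpiFamily g) (V : Dᵒᵖ) (s : H.obj.obj V) :
    ∃ S ∈ K V.unop, ∀ ⦃W : D⦄ ⦃k : W ⟶ V.unop⦄, S k →
      ∃ (i : ι) (t : (G i).obj.obj (op W)), (g i).hom.app (op W) t = H.obj.map k.op s := by
  let P : Subfunctor H.obj :=
    { obj := fun U => {x | ∃ (i : ι) (t : (G i).obj.obj U), (g i).hom.app U t = x}
      map := by
        rintro U U' k x ⟨i, t, rfl⟩
        exact ⟨i, (G i).obj.map k t, ConcreteCategory.congr_hom ((g i).hom.naturality k) t⟩ }
  have hH : Presieve.IsSheaf K H.obj := (isSheaf_iff_isSheaf_of_type K H.obj).1 H.property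
  let H' : Sheaf K (Type u) :=
    ⟨(P.sheafify K).toFunctor, (isSheaf_iff_isSheaf_of_type K _).2 (P.sheafify_isSheaf hH)⟩
  let j : H' ⟶ H := ⟨(P.sheafify K).ι⟩
  let g' : ∀ i, G i ⟶ H' := fun i =>
    ⟨{ app := fun U => ↾fun t => ⟨(g i).hom.app U t, P.le_sheafify K U ⟨i, t, rfl⟩⟩
       naturality := fun U U' k => by
         ext t
         apply Subtype.ext
         exact ConcreteCategory.congr_hom ((g i).hom.naturality k) t }⟩
  haveI : Mono j.hom := inferInstanceAs (Mono (P.sheafify K).ι)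
  haveI : Mono j := (sheafToPresheaf K (Type u)).mono_of_mono_map this
  haveI : Epi j := ⟨fun a b h => hg _ a b fun i => by
    have h2 := congrArg (fun m => g' i ≫ m) h
    simp only [← Category.assoc] at h2
    exact h2⟩
  haveI : IsIso j := isIso_of_mono_of_epi j
  have hj : Function.Bijective (j.hom.app V) :=
    (isIso_iff_bijective _).1 (inferInstanceAs (IsIso (((sheafToPresheaf K (Type u)).map j).app V)))
  obtain ⟨⟨x, hx⟩, rfl⟩ := hj.2 s
  exact ⟨P.sieveOfSection x, hx, fun W k hk => hk⟩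

theorem hom_ext_of_covering {Z : Sheaf K (Type u)} {V : Dᵒᵖ} {S : Sieve V.unop} (hS : S ∈ K V.unop)
    {x y : Z.obj.obj V} (h : ∀ ⦃W : D⦄ ⦃k : W ⟶ V.unop⦄, S k → Z.obj.map k.op x = Z.obj.map k.op y) : x = y :=
  ((isSheaf_iff_isSheaf_of_type K Z.obj).1 Z.property).isSeparated S hS |>.ext h

/-- Compatible maps out of a jointly epimorphic family glue. -/
theorem exists_desc {ι : Type u'} {H Z : Sheaf K (Type u)} {G : ι → Sheaf K (Type u)}
    (g : ∀ i, G i ⟶ H) (hg : SGA4.IsEpiFamily g) (a : ∀ i, G i ⟶ Z)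
    (hc : ∀ (V : Dᵒᵖ) (i j : ι) (t : (G i).obj.obj V) (t' : (G j).obj.obj V),
      (g i).hom.app V t = (g j).hom.app V t' → (a i).hom.app V t = (a j).hom.app V t') :
    ∃ A : H ⟶ Z, ∀ i, g i ≫ A = a i := by
  have hZ : Presieve.IsSheaf K Z.obj := (isSheaf_iff_isSheaf_of_type K Z.obj).1 Z.property
  have hex : ∀ (V : Dᵒᵖ) (s : H.obj.obj V), ∃ z : Z.obj.obj V, ∀ ⦃W : D⦄ (k : W ⟶ V.unop) (i : ι)
      (t : (G i).obj.obj (op W)), (g i).hom.app (op W) t = H.obj.map k.op s →
        Z.obj.map k.op z = (a i).hom.app (op W) t := by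
    intro V s
    obtain ⟨S, hS, hSx⟩ := locally_surjective_of_isEpiFamily g hg V s
    choose i t ht using hSx
    let x : Presieve.FamilyOfElements Z.obj S.arrows := fun W k hk => (a (i hk)).hom.app (op W) (t hk)
    have hx : x.Compatible := by
      intro Y₁ Y₂ W k₁ k₂ f₁ f₂ h₁ h₂ heq
      have e1 := ConcreteCategory.congr_hom ((a (i h₁)).hom.naturality k₁.op) (t h₁)
      have e2 := ConcreteCategory.congr_hom ((a (i h₂)).hom.naturality k₂.op) (t h₂)
      refine e1.symm.trans ((hc _ _ _ _ _ ?_).trans e2)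
      have e1' := ConcreteCategory.congr_hom ((g (i h₁)).hom.naturality k₁.op) (t h₁)
      have e2' := ConcreteCategory.congr_hom ((g (i h₂)).hom.naturality k₂.op) (t h₂)
      refine e1'.trans (Eq.trans ?_ e2'.symm)
      show H.obj.map k₁.op ((g (i h₁)).hom.app _ (t h₁)) = H.obj.map k₂.op ((g (i h₂)).hom.app _ (t h₂))
      rw [ht h₁, ht h₂, ← Functor.map_comp_apply, ← Functor.map_comp_apply, ← op_comp, ← op_comp, heq]
    refine ⟨(hZ S hS).amalgamate x hx, fun W k i' t' h' => ?_⟩
    refine hom_ext_of_covering (K.pullback_stable k hS) fun W' l hl => ?_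
    have h1 : Z.obj.map l.op (Z.obj.map k.op ((hZ S hS).amalgamate x hx)) = x (l ≫ k) hl := by
      rw [← Functor.map_comp_apply, ← op_comp]
      exact (hZ S hS).valid_glue hx (l ≫ k) hl
    refine h1.trans ((hc _ _ _ _ ((G i').obj.map l.op t') ?_).trans
      (ConcreteCategory.congr_hom ((a i').hom.naturality l.op) t'))
    refine (ht hl).trans (Eq.trans ?_ (ConcreteCategory.congr_hom ((g i').hom.naturality l.op) t').symm)
    show H.obj.map (l ≫ k).op s = H.obj.map l.op ((g i').hom.app _ t')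
    rw [h', op_comp, Functor.map_comp_apply]
  choose z hz using hex
  refine ⟨⟨{ app := fun V => ↾(z V), naturality := fun V V' m => ?_ }⟩, fun i => ?_⟩
  · ext s
    show z V' (H.obj.map m s) = Z.obj.map m (z V s)
    obtain ⟨S, hS, hSx⟩ := locally_surjective_of_isEpiFamily g hg V' (H.obj.map m s)
    refine hom_ext_of_covering hS fun W k hk => ?_
    obtain ⟨i, t, ht⟩ := hSx hk
    rw [hz V' _ k i t ht, ← Functor.map_comp_apply]
    refine (hz V s (k ≫ m.unop) i t (ht.trans ?_)).symm
    exact (Functor.map_comp_apply H.obj m k.op s).symm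
  · apply Sheaf.hom_ext
    ext V t
    have h := hz V ((g i).hom.app V t) (𝟙 V.unop) i t (by simp)
    simp only [op_id, Functor.map_id_apply] at h
    exact h

variable {C : Type u} [SmallCategory C] (J : GrothendieckTopology C)

/-- The sheafified representable. -/
noncomputable abbrev rep : C ⥤ Sheaf J (Type u) := yoneda ⋙ presheafToSheaf J (Type u)

/-- Maps out of sheafified representables are sections. -/
noncomputable def ev (c : C) (F : Sheaf J (Type u)) : ((rep J).obj c ⟶ F) ≃ F.obj.obj (op c) :=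
  ((sheafificationAdjunction J (Type u)).homEquiv _ F).trans yonedaEquiv

variable {J}

theorem ev_comp (c : C) {F G : Sheaf J (Type u)} (φ : (rep J).obj c ⟶ F) (q : F ⟶ G) :
    ev J c G (φ ≫ q) = q.hom.app (op c) (ev J c F φ) := by
  show yonedaEquiv ((sheafificationAdjunction J (Type u)).homEquiv (yoneda.obj c) G (φ ≫ q)) =
    q.hom.app (op c) (yonedaEquiv ((sheafificationAdjunction J (Type u)).homEquiv (yoneda.obj c) F φ))
  erw [Adjunction.homEquiv_naturality_right, yonedaEquiv_comp]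

theorem ev_map {c c' : C} (k : c' ⟶ c) {F : Sheaf J (Type u)} (φ : (rep J).obj c ⟶ F) :
    ev J c' F ((rep J).map k ≫ φ) = F.obj.map k.op (ev J c F φ) := by
  show yonedaEquiv ((sheafificationAdjunction J (Type u)).homEquiv (yoneda.obj c') F
      ((presheafToSheaf J (Type u)).map (yoneda.map k) ≫ φ)) =
    F.obj.map k.op (yonedaEquiv ((sheafificationAdjunction J (Type u)).homEquiv (yoneda.obj c) F φ))
  erw [Adjunction.homEquiv_naturality_left]
  exact (yonedaEquiv_naturality _ k).symm

theorem ev_symm_map {c c' : C} (k : c' ⟶ c) {F : Sheaf J (Type u)} (x : F.obj.obj (op c)) :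
    (rep J).map k ≫ (ev J c F).symm x = (ev J c' F).symm (F.obj.map k.op x) := by
  apply (ev J c' F).injective
  rw [ev_map, Equiv.apply_symm_apply, Equiv.apply_symm_apply]

theorem ev_symm_comp {c : C} {F G : Sheaf J (Type u)} (x : F.obj.obj (op c)) (q : F ⟶ G) :
    (ev J c F).symm x ≫ q = (ev J c G).symm (q.hom.app (op c) x) := by
  apply (ev J c G).injective
  rw [ev_comp, Equiv.apply_symm_apply, Equiv.apply_symm_apply]

/-- The index of all sections. -/
abbrev Sec (F : Sheaf J (Type u)) : Type u := Σ c : C, F.obj.obj (op c)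

theorem isEpiFamily_sections (F : Sheaf J (Type u)) :
    SGA4.IsEpiFamily (fun x : Sec F => (ev J x.1 F).symm x.2) := by
  intro Z a b h
  apply Sheaf.hom_ext
  ext ⟨c⟩ x
  have h1 := congrArg (ev J c Z) (h ⟨c, x⟩)
  rwa [ev_comp, ev_comp, Equiv.apply_symm_apply] at h1

theorem isEpiFamily_covering {c : C} {S : Sieve c} (hS : S ∈ J c) :
    SGA4.IsEpiFamily (fun p : (Σ W : C, {k : W ⟶ c // S k}) => (rep J).map p.2.1) := by
  intro Z a b h
  apply (ev J c Z).injective
  refine hom_ext_of_covering (K := J) (V := op c) hS fun W k hk => ?_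
  rw [← ev_map, ← ev_map]
  exact congrArg (ev J W Z) (h ⟨W, k, hk⟩)

/-- Every map between sheafified representables is locally given by a map of the site, and equal maps of
the site become locally equal. -/
theorem exists_local_lift {c e : C} (φ : (rep J).obj e ⟶ (rep J).obj c) :
    ∃ S ∈ J e, ∀ ⦃W : C⦄ ⦃k : W ⟶ e⦄, S k → ∃ m : W ⟶ c, (rep J).map m = (rep J).map k ≫ φ := by
  have hid : ev J c ((rep J).obj c) (𝟙 _) = (toSheafify J (yoneda.obj c)).app (op c) (𝟙 c) := by
    show yonedaEquiv ((sheafificationAdjunction J (Type u)).homEquiv (yoneda.obj c) _ (𝟙 _)) = _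
    rw [Adjunction.homEquiv_id, sheafificationAdjunction_unit_app]
    rfl
  refine ⟨_, Presheaf.imageSieve_mem J (toSheafify J (yoneda.obj c)) (ev J e _ φ), fun W k ⟨m, hm⟩ => ⟨m, ?_⟩⟩
  apply (ev J W _).injective
  rw [ev_map, ← Category.comp_id ((rep J).map m), ev_map, hid]
  refine Eq.trans ?_ hm
  refine Eq.trans ?_ (congrArg _ (show ((yoneda.obj c).map m.op) (𝟙 c) = m by simp))
  exact (ConcreteCategory.congr_hom ((toSheafify J (yoneda.obj c)).naturality m.op) (𝟙 c)).symm

theorem exists_local_eq {c e : C} (m m' : e ⟶ c) (h : (rep J).map m = (rep J).map m') :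
    ∃ S ∈ J e, ∀ ⦃W : C⦄ ⦃k : W ⟶ e⦄, S k → k ≫ m = k ≫ m' := by
  have hid : ev J c ((rep J).obj c) (𝟙 _) = (toSheafify J (yoneda.obj c)).app (op c) (𝟙 c) := by
    show yonedaEquiv ((sheafificationAdjunction J (Type u)).homEquiv (yoneda.obj c) _ (𝟙 _)) = _
    rw [Adjunction.homEquiv_id, sheafificationAdjunction_unit_app]
    rfl
  have hm : ∀ l : e ⟶ c, ev J e _ ((rep J).map l) = (toSheafify J (yoneda.obj c)).app (op e) l := fun l => by
    rw [← Category.comp_id ((rep J).map l), ev_map, hid]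
    refine Eq.trans (ConcreteCategory.congr_hom ((toSheafify J (yoneda.obj c)).naturality l.op) (𝟙 c)).symm ?_
    exact congrArg _ (show ((yoneda.obj c).map l.op) (𝟙 c) = l by simp)
  refine ⟨_, Presheaf.equalizerSieve_mem J (toSheafify J (yoneda.obj c)) m m' ((hm m).symm.trans ((congrArg _ h).trans (hm m'))),
    fun W k hk => ?_⟩
  have hk' : (yoneda.obj c).map k.op m = (yoneda.obj c).map k.op m' := hk
  simpa using hk'

variable (f : Sheaf J (Type u) ⥤ Sheaf K (Type u)) [PreservesFiniteLimits f]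
  (hf : SGA4.PreservesEpiFamilies.{u + 1, u + 1, u} f)

include hf

/-- Maps out of images of sheafified representables glue along jointly epimorphic families. -/
theorem exists_desc_image {ι : Type u} {X : Sheaf J (Type u)} (c : ι → C) (g : ∀ i, (rep J).obj (c i) ⟶ X)
    (hg : SGA4.IsEpiFamily g) {Z : Sheaf K (Type u)} (a : ∀ i, f.obj ((rep J).obj (c i)) ⟶ Z)
    (hc : ∀ (e : C) (i j : ι) (u : (rep J).obj e ⟶ (rep J).obj (c i)) (v : (rep J).obj e ⟶ (rep J).obj (c j)),
      u ≫ g i = v ≫ g j → f.map u ≫ a i = f.map v ≫ a j) :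
    ∃ A : f.obj X ⟶ Z, ∀ i, f.map (g i) ≫ A = a i := by
  refine exists_desc (fun i => f.map (g i)) (hf ι X _ g hg) a fun V i j t t' h => ?_
  let P := pullback (g i) (g j)
  have sq : IsPullback ((f.map (pullback.fst (g i) (g j))).hom.app V) ((f.map (pullback.snd (g i) (g j))).hom.app V)
      ((f.map (g i)).hom.app V) ((f.map (g j)).hom.app V) :=
    (((IsPullback.of_hasPullback (g i) (g j)).map f).map (sheafToPresheaf K (Type u))).map
      ((evaluation Dᵒᵖ (Type u)).obj V)
  obtain ⟨w, hw1, hw2⟩ := (Types.isPullback_iff _ _ _ _).1 sq |>.2.2 t t' h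
  subst hw1 hw2
  obtain ⟨S, hS, hSx⟩ := locally_surjective_of_isEpiFamily _
    (hf (Sec P) P _ _ (isEpiFamily_sections P)) V w
  refine hom_ext_of_covering hS fun W k hk => ?_
  obtain ⟨⟨e, x⟩, s, hs⟩ := hSx hk
  have h1 := hc e i j ((ev J e P).symm x ≫ pullback.fst (g i) (g j)) ((ev J e P).symm x ≫ pullback.snd (g i) (g j))
    (by rw [Category.assoc, Category.assoc, pullback.condition])
  rw [f.map_comp, f.map_comp, Category.assoc, Category.assoc] at h1
  have h2 := ConcreteCategory.congr_hom (congrArg (fun m : _ ⟶ Z => m.hom.app (op W)) h1) s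
  have hs' : (f.map ((ev J e P).symm x)).hom.app (op W) s = (f.obj P).obj.map k.op w := hs
  change (a i).hom.app _ ((f.map (pullback.fst (g i) (g j))).hom.app _ ((f.map ((ev J e P).symm x)).hom.app (op W) s)) =
    (a j).hom.app _ ((f.map (pullback.snd (g i) (g j))).hom.app _ ((f.map ((ev J e P).symm x)).hom.app (op W) s)) at h2
  rw [hs'] at h2
  have n1 := ConcreteCategory.congr_hom ((f.map (pullback.fst (g i) (g j)) ≫ a i).hom.naturality k.op) w
  have n2 := ConcreteCategory.congr_hom ((f.map (pullback.snd (g i) (g j)) ≫ a j).hom.naturality k.op) w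
  exact n1.symm.trans (h2.trans n2)

/-- The presheaf of maps out of the images of representables. -/
noncomputable def rightObj (Z : Sheaf K (Type u)) : Sheaf J (Type u) :=
  ⟨{ obj := fun c => f.obj ((rep J).obj c.unop) ⟶ Z
     map := fun k => ↾fun a => f.map ((rep J).map k.unop) ≫ a
     map_id := fun c => by ext a; simp
     map_comp := fun k l => by ext a; simp }, by
    rw [isSheaf_iff_isSheaf_of_type]
    intro c S hS x hx
    have hg := isEpiFamily_covering (J := J) hS
    obtain ⟨A, hA⟩ := exists_desc_image f hf (fun p : (Σ W : C, {k : W ⟶ c // S k}) => p.1)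
      (fun p => (rep J).map p.2.1) hg (Z := Z) (fun p => x p.2.1 p.2.2) (by
      rintro e ⟨W₁, k₁, h₁⟩ ⟨W₂, k₂, h₂⟩ u v huv
      obtain ⟨S₁, hS₁, hu⟩ := exists_local_lift u
      obtain ⟨S₂, hS₂, hv⟩ := exists_local_lift v
      refine hf _ _ _ _ (isEpiFamily_covering (J := J) (J.intersection_covering hS₁ hS₂)) Z _ _ ?_
      rintro ⟨W, k, hk₁, hk₂⟩
      obtain ⟨m₁, hm₁⟩ := hu hk₁
      obtain ⟨m₂, hm₂⟩ := hv hk₂
      have he : (rep J).map (m₁ ≫ k₁) = (rep J).map (m₂ ≫ k₂) := by
        rw [Functor.map_comp, Functor.map_comp, hm₁, hm₂, Category.assoc, Category.assoc]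
        exact congrArg _ huv
      obtain ⟨S₃, hS₃, he'⟩ := exists_local_eq _ _ he
      show f.map ((rep J).map k) ≫ f.map u ≫ x k₁ h₁ = f.map ((rep J).map k) ≫ f.map v ≫ x k₂ h₂
      rw [← f.map_comp_assoc, ← f.map_comp_assoc, ← hm₁, ← hm₂]
      refine hf _ _ _ _ (isEpiFamily_covering (J := J) hS₃) Z _ _ ?_
      rintro ⟨W', l, hl⟩
      have h3 : f.map ((rep J).map (l ≫ m₁)) ≫ x k₁ h₁ = f.map ((rep J).map (l ≫ m₂)) ≫ x k₂ h₂ :=
        hx (l ≫ m₁) (l ≫ m₂) h₁ h₂ (by rw [Category.assoc, Category.assoc]; exact he' hl)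
      show f.map ((rep J).map l) ≫ f.map ((rep J).map m₁) ≫ x k₁ h₁ =
        f.map ((rep J).map l) ≫ f.map ((rep J).map m₂) ≫ x k₂ h₂
      rw [← f.map_comp_assoc, ← f.map_comp_assoc, ← (rep J).map_comp, ← (rep J).map_comp]
      exact h3)
    refine ⟨A, fun W k hk => hA ⟨W, k, hk⟩, fun A' hA' => ?_⟩
    refine hf _ _ _ _ hg Z _ _ fun p => ?_
    exact (hA' p.2.1 p.2.2).trans (hA p).symm⟩

/-- The correspondence. -/
noncomputable def toRight (X : Sheaf J (Type u)) (Z : Sheaf K (Type u)) (a : f.obj X ⟶ Z) : X ⟶ rightObj f hf Z :=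
  ⟨{ app := fun c => ↾fun x => f.map ((ev J c.unop X).symm x) ≫ a
     naturality := fun c c' k => by
      ext x
      show f.map ((ev J c'.unop X).symm (X.obj.map k.unop.op x)) ≫ a =
        f.map ((rep J).map k.unop) ≫ f.map ((ev J c.unop X).symm x) ≫ a
      rw [← ev_symm_map, Functor.map_comp, Category.assoc] }⟩

theorem toRight_app (X : Sheaf J (Type u)) (Z : Sheaf K (Type u)) (a : f.obj X ⟶ Z) (c : C)
    (x : X.obj.obj (op c)) :
    (toRight f hf X Z a).hom.app (op c) x = f.map ((ev J c X).symm x) ≫ a := rfl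

theorem bijective_toRight (X : Sheaf J (Type u)) (Z : Sheaf K (Type u)) :
    Function.Bijective (toRight f hf X Z) := by
  constructor
  · intro a b h
    refine hf _ _ _ _ (isEpiFamily_sections X) Z a b fun x => ?_
    obtain ⟨c, s⟩ := x
    show f.map ((ev J c X).symm s) ≫ a = f.map ((ev J c X).symm s) ≫ b
    rw [← toRight_app f hf X Z a c s, h, toRight_app f hf X Z b c s]
  · intro t
    obtain ⟨A, hA⟩ := exists_desc_image f hf (fun x : Sec X => x.1) (fun x => (ev J x.1 X).symm x.2)
      (isEpiFamily_sections X) (Z := Z) (fun x => t.hom.app (op x.1) x.2) (by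
      rintro e ⟨c₁, x₁⟩ ⟨c₂, x₂⟩ u v huv
      obtain ⟨S₁, hS₁, hu⟩ := exists_local_lift u
      obtain ⟨S₂, hS₂, hv⟩ := exists_local_lift v
      refine hf _ _ _ _ (isEpiFamily_covering (J := J) (J.intersection_covering hS₁ hS₂)) Z _ _ ?_
      rintro ⟨W, k, hk₁, hk₂⟩
      obtain ⟨m₁, hm₁⟩ := hu hk₁
      obtain ⟨m₂, hm₂⟩ := hv hk₂
      have hx : X.obj.map m₁.op x₁ = X.obj.map m₂.op x₂ := by
        apply (ev J W X).symm.injective
        rw [← ev_symm_map, ← ev_symm_map, hm₁, hm₂, Category.assoc, Category.assoc]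
        exact congrArg _ huv
      have e1 := ConcreteCategory.congr_hom (t.hom.naturality m₁.op) x₁
      have e2 := ConcreteCategory.congr_hom (t.hom.naturality m₂.op) x₂
      have h3 : f.map ((rep J).map m₁) ≫ t.hom.app (op c₁) x₁ = f.map ((rep J).map m₂) ≫ t.hom.app (op c₂) x₂ :=
        e1.symm.trans ((congrArg _ hx).trans e2)
      rw [← Category.assoc, ← Category.assoc, ← f.map_comp, ← f.map_comp, ← hm₁, ← hm₂]
      exact h3)
    refine ⟨A, Sheaf.hom_ext ?_⟩
    ext ⟨c⟩ x
    exact hA ⟨c, x⟩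

theorem isLeftAdjoint : f.IsLeftAdjoint := by
  let e : ∀ X Z, (f.obj X ⟶ Z) ≃ (X ⟶ rightObj f hf Z) := fun X Z =>
    Equiv.ofBijective _ (bijective_toRight f hf X Z)
  refine ⟨_, ⟨Adjunction.adjunctionOfEquivRight e fun X' X Z φ a => ?_⟩⟩
  apply Sheaf.hom_ext
  ext ⟨c⟩ x
  show f.map ((ev J c X').symm x) ≫ f.map φ ≫ a = f.map ((ev J c X).symm (φ.hom.app (op c) x)) ≫ a
  rw [← ev_symm_comp, Functor.map_comp, Category.assoc]

end Groth.Agent.SheafTopos.InverseImage
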