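import Groth.Agent.SheafTopos.InverseImage
import Groth.Agent.GluedTopos.Pointwise
import Mathlib.CategoryTheory.Limits.Shapes.Diagonal
import Mathlib.CategoryTheory.Limits.Shapes.DisjointCoproduct
import Mathlib.CategoryTheory.Limits.Preserves.Shapes.Products

/-!
When a family of maps of a site becomes a coproduct decomposition after sheafification.
-/

set_option autoImplicit false
set_option linter.style.haveILetI false
set_option backward.defeqAttrib.useBackward true
set_option backward.isDefEq.respectTransparency false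

universe u

open CategoryTheory CategoryTheory.Limits Opposite

namespace Groth.Agent.SheafTopos.SheafifiedCofan

open InverseImage

variable {C : Type u} [SmallCategory C] {J : GrothendieckTopology C} {X : C} {ι : Type u} {Y : ι → C}
  {s : ∀ i, Y i ⟶ X}

/-- A covering family is jointly epimorphic after sheafification. -/
theorem isEpiFamily_of_mem (h : Sieve.ofArrows Y s ∈ J X) :
    SGA4.IsEpiFamily fun i => (rep J).map (s i) := by
  intro Z a b hab
  refine isEpiFamily_covering h Z a b ?_
  rintro ⟨W, k, hk⟩
  obtain ⟨i, l, rfl⟩ : ∃ i, ∃ l : W ⟶ Y i, k = l ≫ s i := (Sieve.mem_ofArrows_iff Y s k).1 hk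
  simp only [Functor.map_comp, Category.assoc]
  rw [hab i]

/-- A family which is jointly epimorphic after sheafification is covering. -/
theorem mem_of_isEpiFamily (h : SGA4.IsEpiFamily fun i => (rep J).map (s i)) :
    Sieve.ofArrows Y s ∈ J X := by
  obtain ⟨S, hS, hSx⟩ := locally_surjective_of_isEpiFamily _ h (op X) (ev J X _ (𝟙 _))
  refine J.transitive hS _ fun W k hk => ?_
  obtain ⟨i, t, ht⟩ := hSx hk
  have hu : (ev J W _).symm t ≫ (rep J).map (s i) = (rep J).map k := by
    apply (ev J W _).injective
    rw [ev_comp, Equiv.apply_symm_apply, ht, ← ev_map, Category.comp_id]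
  obtain ⟨T, hT, hTx⟩ := exists_local_lift ((ev J W _).symm t)
  refine J.transitive hT _ fun W' l hl => ?_
  obtain ⟨m, hm⟩ := hTx hl
  have he : (rep J).map (m ≫ s i) = (rep J).map (l ≫ k) := by
    rw [Functor.map_comp, hm, Category.assoc, hu, Functor.map_comp]
  obtain ⟨R, hR, hRx⟩ := exists_local_eq _ _ he
  refine J.superset_covering (fun W'' n hn => ?_) hR
  show Sieve.ofArrows Y s ((n ≫ l) ≫ k)
  rw [Category.assoc, ← hRx hn, ← Category.assoc]
  exact (Sieve.mem_ofArrows_iff Y s _).2 ⟨i, n ≫ m, rfl⟩

/-- A jointly epimorphic family of monomorphisms of sheaves with pairwise initial fibre products is a coproduct. -/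
theorem isColimit_of_disjoint {κ : Type u} {G : κ → Sheaf J (Type u)} {H : Sheaf J (Type u)}
    (g : ∀ i, G i ⟶ H) (hg : SGA4.IsEpiFamily g) [∀ i, Mono (g i)]
    (hd : ∀ i j, i ≠ j → Nonempty (IsInitial (pullback (g i) (g j)))) :
    Nonempty (IsColimit (Cofan.mk H g)) := by
  have hdesc : ∀ c : Cofan G, ∃ A : H ⟶ c.pt, ∀ i, g i ≫ A = c.inj i := fun c => by
    refine exists_desc g hg (fun i => c.inj i) fun V i j t t' h => ?_
    obtain ⟨a, rfl⟩ := (ev J V.unop (G i)).surjective t
    obtain ⟨b, rfl⟩ := (ev J V.unop (G j)).surjective t'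
    have hab : a ≫ g i = b ≫ g j := (ev J V.unop H).injective (by rw [ev_comp, ev_comp]; exact h)
    rcases eq_or_ne i j with rfl | hij
    · rw [(cancel_mono (g i)).1 hab]
    · have e := (hd i j hij).some.hom_ext (pullback.fst (g i) (g j) ≫ c.inj i) (pullback.snd (g i) (g j) ≫ c.inj j)
      have e' := congrArg (pullback.lift a b hab ≫ ·) e
      simp only [pullback.lift_fst_assoc, pullback.lift_snd_assoc] at e'
      exact (ev_comp _ a _).symm.trans ((congrArg _ e').trans (ev_comp _ b _))
  choose A hA using hdesc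
  exact ⟨Limits.mkCofanColimit _ (fun c => A c) (fun c i => hA c i)
    fun c m hm => hg _ m (A c) fun i => (hm i).trans (hA c i).symm⟩

/-- The injections of a coproduct of sheaves are monomorphisms with pairwise initial fibre products. -/
theorem mono_and_disjoint {κ : Type u} {G : κ → Sheaf J (Type u)} {H : Sheaf J (Type u)}
    (g : ∀ i, G i ⟶ H) (hc : IsColimit (Cofan.mk H g)) :
    SGA4.IsEpiFamily g ∧ (∀ i, Mono (g i)) ∧ ∀ i j, i ≠ j → Nonempty (IsInitial (pullback (g i) (g j))) := by
  have hv := GluedTopos.isVanKampen_sheaf J hc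
  refine ⟨fun Z a b h => hc.hom_ext fun i => h i.as, fun i => mono_of_cofan_isVanKampen hv ⟨i⟩,
    fun i j hij => ⟨IsInitial.ofIso initialIsInitial ?_⟩⟩
  exact (isPullback_initial_to_of_cofan_isVanKampen hv ⟨i⟩ ⟨j⟩ (by simpa using hij)).isoPullback

theorem mono_map_iff {E : Type*} [Category* E] {E' : Type*} [Category* E'] [HasPullbacks E] [HasPullbacks E']
    (F : E ⥤ E') [PreservesLimitsOfShape WalkingCospan F] {A B : E} (f : A ⟶ B) :
    Mono (F.map f) ↔ IsIso (F.map (pullback.diagonal f)) := by
  have sq := (IsPullback.of_hasPullback f f).map F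
  have key : F.map (pullback.diagonal f) ≫ sq.isoPullback.hom = pullback.diagonal (F.map f) := by
    apply pullback.hom_ext <;> simp [← F.map_comp]
  rw [← pullback.isIso_diagonal_iff, ← key, isIso_comp_right_iff]

/-- The criterion for a family to become a coproduct decomposition after sheafification. -/
theorem cofan_iff :
    (Sieve.ofArrows Y s ∈ J X ∧
      (∀ i, IsIso ((presheafToSheaf J (Type u)).map (pullback.diagonal (yoneda.map (s i))))) ∧
      (∀ i j, i ≠ j → Nonempty (IsInitial ((presheafToSheaf J (Type u)).obj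
        (pullback (yoneda.map (s i)) (yoneda.map (s j))))))) ↔
    Nonempty (IsColimit (Cofan.mk ((rep J).obj X) fun i => (rep J).map (s i))) := by
  let e := fun i j => ((IsPullback.of_hasPullback (yoneda.map (s i)) (yoneda.map (s j))).map
    (presheafToSheaf J (Type u))).isoPullback
  constructor
  · rintro ⟨h₁, h₂, h₃⟩
    haveI : ∀ i, Mono ((rep J).map (s i)) := fun i => (mono_map_iff (presheafToSheaf J (Type u)) _).2 (h₂ i)
    exact isColimit_of_disjoint _ (isEpiFamily_of_mem h₁) fun i j hij =>
      ⟨IsInitial.ofIso (h₃ i j hij).some (e i j)⟩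
  · rintro ⟨hc⟩
    obtain ⟨h₁, h₂, h₃⟩ := mono_and_disjoint _ hc
    exact ⟨mem_of_isEpiFamily h₁, fun i => (mono_map_iff (presheafToSheaf J (Type u)) _).1 (h₂ i),
      fun i j hij => ⟨IsInitial.ofIso (h₃ i j hij).some (e i j).symm⟩⟩

/-- Objects covered by the empty sieve become initial. -/
noncomputable def isInitialRep {P : C} (hP : (⊥ : Sieve P) ∈ J P) : IsInitial ((rep J).obj P) := by
  refine IsInitial.ofUniqueHom (fun Z => (ev J P Z).symm ?_) fun Z m => ?_
  · exact ((isSheaf_iff_isSheaf_of_type J Z.obj).1 Z.property ⊥ hP).amalgamate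
      (fun _ _ h => h.elim) (fun _ _ _ _ _ _ _ h => h.elim)
  · apply (ev J P Z).injective
    exact hom_ext_of_covering (K := J) (V := op P) hP fun _ _ h => h.elim

theorem isInitial_pullback {i j : ι} [HasPullback (s i) (s j)] (h : (⊥ : Sieve (pullback (s i) (s j))) ∈ J _) :
    Nonempty (IsInitial (pullback ((rep J).map (s i)) ((rep J).map (s j)))) :=
  ⟨IsInitial.ofIso (isInitialRep h)
    (((IsPullback.of_hasPullback (s i) (s j)).map yoneda).map (presheafToSheaf J (Type u))).isoPullback⟩

/-- A covering family of monomorphisms with empty overlaps becomes a coproduct. -/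
theorem cofan_of_disjoint [∀ (i : ι) (Z : C) (g : Z ⟶ X), HasPullback (s i) g]
    (hcov : Sieve.ofArrows Y s ∈ J X) (hmono : ∀ i, Mono (s i))
    (hdisj : ∀ i j, i ≠ j → (⊥ : Sieve (pullback (s i) (s j))) ∈ J (pullback (s i) (s j))) :
    Nonempty (IsColimit (Cofan.mk ((rep J).obj X) fun i => (rep J).map (s i))) := by
  haveI : ∀ i, Mono ((rep J).map (s i)) := fun i => by
    haveI := hmono i
    haveI : Mono (yoneda.map (s i)) := inferInstance
    exact (presheafToSheaf J (Type u)).map_mono _
  exact isColimit_of_disjoint _ (isEpiFamily_of_mem hcov) fun i j hij => isInitial_pullback (hdisj i j hij)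

/-- Sheafified representables of a subcanonical topology are the Yoneda sheaves. -/
noncomputable def repIso (J : GrothendieckTopology C) [J.Subcanonical] : J.yoneda ≅ rep J :=
  (Functor.isoWhiskerLeft J.yoneda (asIso (sheafificationAdjunction J (Type u)).counit) ≪≫ J.yoneda.rightUnitor).symm ≪≫
    (Functor.associator _ _ _).symm ≪≫ Functor.isoWhiskerRight J.yonedaCompSheafToPresheaf _

instance [J.Subcanonical] : (rep J).Full := Functor.Full.of_iso (repIso J)

instance [J.Subcanonical] : (rep J).Faithful := Functor.Faithful.of_iso (repIso J)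

end Groth.Agent.SheafTopos.SheafifiedCofan
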