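import Groth.Agent.SheafTopos.InverseImage
import Mathlib.CategoryTheory.Sites.Canonical
import Mathlib.CategoryTheory.Limits.Shapes.Multiequalizer
import Mathlib.CategoryTheory.Limits.Yoneda
import Mathlib.CategoryTheory.Limits.Opposites
import Mathlib.CategoryTheory.Limits.Types.ColimitType

/-!
Sheaves for the canonical topology of a sheaf topos are the functors turning colimits into limits.
-/

set_option autoImplicit false
set_option linter.style.haveILetI false
set_option backward.defeqAttrib.useBackward true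
set_option backward.isDefEq.respectTransparency false

universe u u' v w

open CategoryTheory CategoryTheory.Limits Opposite

namespace Groth.Agent.SheafTopos.Canonical

open InverseImage

variable {C : Type u} [SmallCategory C] {J : GrothendieckTopology C}

/-- A jointly epimorphic family is stable under base change, locally. -/
theorem isEpiFamily_of_locally {ι : Type u'} {H : Sheaf J (Type u)} {G : ι → Sheaf J (Type u)}
    (g : ∀ i, G i ⟶ H)
    (h : ∀ (V : Cᵒᵖ) (s : H.obj.obj V), ∃ S ∈ J V.unop, ∀ ⦃W : C⦄ ⦃k : W ⟶ V.unop⦄, S k →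
      ∃ (i : ι) (t : (G i).obj.obj (op W)), (g i).hom.app (op W) t = H.obj.map k.op s) :
    SGA4.IsEpiFamily g := by
  intro Z a b hab
  apply Sheaf.hom_ext
  ext V s
  obtain ⟨S, hS, hSx⟩ := h V s
  refine hom_ext_of_covering hS fun W k hk => ?_
  obtain ⟨i, t, ht⟩ := hSx hk
  have e1 := ConcreteCategory.congr_hom (a.hom.naturality k.op) s
  have e2 := ConcreteCategory.congr_hom (b.hom.naturality k.op) s
  have e3 : a.hom.app (op W) ((g i).hom.app (op W) t) = b.hom.app (op W) ((g i).hom.app (op W) t) :=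
    ConcreteCategory.congr_hom (congrArg (fun m : G i ⟶ Z => m.hom.app (op W)) (hab i)) t
  rw [ht] at e3
  exact e1.symm.trans (e3.trans e2)

/-- Sieves containing a jointly epimorphic family cover in the canonical topology. -/
theorem mem_canonical_of_isEpiFamily {X : Sheaf J (Type u)} (S : Sieve X) {ι : Type u'}
    {G : ι → Sheaf J (Type u)} (g : ∀ i, G i ⟶ X) (hg : SGA4.IsEpiFamily g) (hS : ∀ i, S (g i)) :
    S ∈ Sheaf.canonicalTopology (Sheaf J (Type u)) X := by
  refine Sheaf.mem_finestTopology_of_forall_isSheafFor ?_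
  rintro _ ⟨Z, rfl⟩ Y f
  have hT : SGA4.IsEpiFamily fun p : (Σ e : C, {y : Y.obj.obj (op e) //
      S ((ev J e Y).symm y ≫ f)}) => (ev J p.1 Y).symm p.2.1 := by
    refine isEpiFamily_of_locally _ fun V s => ?_
    obtain ⟨R, hR, hRx⟩ := locally_surjective_of_isEpiFamily g hg V (f.hom.app V s)
    refine ⟨R, hR, fun W k hk => ?_⟩
    obtain ⟨i, t, ht⟩ := hRx hk
    have hmem : S ((ev J W Y).symm (Y.obj.map k.op s) ≫ f) := by
      rw [show (ev J W Y).symm (Y.obj.map k.op s) ≫ f = (ev J W _).symm t ≫ g i by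
        rw [ev_symm_comp, ev_symm_comp, ht]
        exact congrArg _ (ConcreteCategory.congr_hom (f.hom.naturality k.op) s)]
      exact S.downward_closed (hS i) _
    refine ⟨⟨W, Y.obj.map k.op s, hmem⟩, ev J W _ (𝟙 _), ?_⟩
    rw [← ev_comp, Category.id_comp, Equiv.apply_symm_apply]
  intro x hx
  obtain ⟨A, hA⟩ := exists_desc _ hT (Z := Z) (fun p => x ((ev J p.1 Y).symm p.2.1) p.2.2) (by
    rintro V ⟨e, y, hy⟩ ⟨e', y', hy'⟩ t t' htt
    obtain ⟨u, rfl⟩ := (ev J V.unop _).surjective t
    obtain ⟨u', rfl⟩ := (ev J V.unop _).surjective t'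
    have hu : u ≫ (ev J e Y).symm y = u' ≫ (ev J e' Y).symm y' := (ev J V.unop Y).injective (by
      rw [ev_comp, ev_comp]; exact htt)
    exact (ev_comp _ u _).symm.trans ((congrArg _ (hx u u' hy hy' hu)).trans (ev_comp _ u' _)))
  refine ⟨A, fun G k hk => ?_, fun A' hA' => ?_⟩
  · refine isEpiFamily_sections G Z _ _ fun p => ?_
    obtain ⟨e, q⟩ := p
    have hq : S ((ev J e Y).symm (k.hom.app (op e) q) ≫ f) := by
      rw [← ev_symm_comp, Category.assoc]
      exact S.downward_closed hk _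
    have h1 := hA ⟨e, k.hom.app (op e) q, hq⟩
    have h2 : ((ev J e G).symm q) ≫ x k hk = x ((ev J e Y).symm (k.hom.app (op e) q)) hq ≫ 𝟙 _ := by
      rw [Category.comp_id]
      have := hx ((ev J e G).symm q) (𝟙 _) hk hq (by rw [Category.id_comp, ev_symm_comp])
      simpa using this
    show (ev J e G).symm q ≫ k ≫ A = (ev J e G).symm q ≫ x k hk
    rw [← Category.assoc, ev_symm_comp, h2, Category.comp_id]
    exact h1
  · refine hT Z A' A fun p => ?_
    exact (hA' _ p.2.2).trans (hA p).symm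

/-- The legs of a colimit cocone of sheaves are jointly epimorphic. -/
theorem isEpiFamily_colimit {K : Type u} [SmallCategory K] {F : K ⥤ Sheaf J (Type u)} {c : Cocone F}
    (hc : IsColimit c) : SGA4.IsEpiFamily fun k => c.ι.app k :=
  fun _ _ _ h => hc.hom_ext h

/-- Compatibility along a colimit cocone is local. -/
theorem eq_of_colimit {K : Type u} [SmallCategory K] {F : K ⥤ Sheaf J (Type u)} {c : Cocone F}
    (hc : IsColimit c) {α : C → Type w} (res : ∀ {e e' : C}, (e' ⟶ e) → α e → α e')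
    (φ : ∀ (k : K) (e : C), (F.obj k).obj.obj (op e) → α e)
    (hφ : ∀ {k k' : K} (m : k ⟶ k') (e : C) (x : (F.obj k).obj.obj (op e)),
      φ k' e ((F.map m).hom.app (op e) x) = φ k e x)
    (hres : ∀ (k : K) {e e' : C} (l : e' ⟶ e) (x : (F.obj k).obj.obj (op e)),
      res l (φ k e x) = φ k e' ((F.obj k).obj.map l.op x))
    {i j : K} {e : C} (x : (F.obj i).obj.obj (op e)) (y : (F.obj j).obj.obj (op e))
    (hxy : (c.ι.app i).hom.app (op e) x = (c.ι.app j).hom.app (op e) y) :
    ∃ S ∈ J e, ∀ ⦃W : C⦄ ⦃l : W ⟶ e⦄, S l → res l (φ i e x) = res l (φ j e y) := by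
  let E : Cocone (F ⋙ sheafToPresheaf J (Type u)) := colimit.cocone _
  let hc' := Sheaf.isColimitSheafifyCocone E (colimit.isColimit _)
  let η : c.pt ⟶ (Sheaf.sheafifyCocone E).pt := hc.desc (Sheaf.sheafifyCocone E)
  have h1 : (toSheafify J E.pt).app (op e) ((E.ι.app i).app (op e) x) =
      (toSheafify J E.pt).app (op e) ((E.ι.app j).app (op e) y) := by
    have hk : ∀ (k : K) (z : (F.obj k).obj.obj (op e)), η.hom.app (op e) ((c.ι.app k).hom.app (op e) z) =
        (toSheafify J E.pt).app (op e) ((E.ι.app k).app (op e) z) := fun k z => by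
      have h := congrArg (fun m : F.obj k ⟶ _ => m.hom.app (op e) z) (hc.fac (Sheaf.sheafifyCocone E) k)
      rw [Sheaf.sheafifyCocone_ι_app_val] at h
      exact h
    rw [← hk, ← hk, hxy]
  refine ⟨_, Presheaf.equalizerSieve_mem J (toSheafify J E.pt) _ _ h1, fun W l hl => ?_⟩
  have hl' : E.pt.map l.op ((E.ι.app i).app (op e) x) = E.pt.map l.op ((E.ι.app j).app (op e) y) := hl
  have e1 := ConcreteCategory.congr_hom ((E.ι.app i).naturality l.op) x
  have e2 := ConcreteCategory.congr_hom ((E.ι.app j).naturality l.op) y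
  have h2 : (E.ι.app i).app (op W) ((F.obj i).obj.map l.op x) = (E.ι.app j).app (op W) ((F.obj j).obj.map l.op y) :=
    e1.trans (hl'.trans e2.symm)
  let G : K ⥤ Type u := (F ⋙ sheafToPresheaf J (Type u)) ⋙ (evaluation Cᵒᵖ (Type u)).obj (op W)
  have hbij := (Types.isColimit_iff_coconeTypesIsColimit
    (((evaluation Cᵒᵖ (Type u)).obj (op W)).mapCocone E)).1 ⟨isColimitOfPreserves _ (colimit.isColimit _)⟩
  have h3 : Quot.mk G.ColimitTypeRel ⟨i, (F.obj i).obj.map l.op x⟩ =
      Quot.mk G.ColimitTypeRel ⟨j, (F.obj j).obj.map l.op y⟩ := hbij.bijective.1 h2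
  have h4 := congrArg (Quot.lift (fun p : Σ k, G.obj k => φ p.1 W p.2) (by
    rintro ⟨k, z⟩ ⟨k', z'⟩ ⟨m, hm⟩
    dsimp only at hm ⊢
    exact ((congrArg (φ k' W) hm).trans (hφ m W z)).symm)) h3
  rw [hres, hres]
  exact h4

variable (P : (Sheaf J (Type u))ᵒᵖ ⥤ Type w)

theorem sections_ext (hP : Presieve.IsSheaf (Sheaf.canonicalTopology (Sheaf J (Type u))) P) {ι : Type u'}
    {X : Sheaf J (Type u)} {G : ι → Sheaf J (Type u)} (g : ∀ i, G i ⟶ X) (hg : SGA4.IsEpiFamily g)
    {a b : P.obj (op X)} (h : ∀ i, P.map (g i).op a = P.map (g i).op b) : a = b := by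
  refine (hP.isSeparated _ (mem_canonical_of_isEpiFamily (Sieve.ofArrows G g) g hg
    (fun i => Sieve.ofArrows_mk G g i))).ext ?_
  rintro W k ⟨_, l, _, ⟨i⟩, rfl⟩
  rw [op_comp, Functor.map_comp_apply, Functor.map_comp_apply, h i]

theorem preservesLimit_of_isSheaf (hP : Presieve.IsSheaf (Sheaf.canonicalTopology (Sheaf J (Type u))) P) :
    PreservesLimitsOfSize.{u, u} P := by
  refine ⟨fun {K} _ => ⟨fun {F} => ⟨fun {c} hc => ?_⟩⟩⟩
  rw [Types.isLimit_iff]
  intro s hs
  let c' := coconeLeftOpOfCone c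
  have hc' : IsColimit c' := isColimitCoconeLeftOpOfCone _ hc
  have hg := isEpiFamily_colimit hc'
  have hcov := mem_canonical_of_isEpiFamily (Sieve.ofArrows _ (fun k => c'.ι.app k)) _ hg
    (fun k => Sieve.ofArrows_mk _ _ k)
  have hsheaf := hP _ hcov
  rw [Sieve.ofArrows, ← Presieve.isSheafFor_iff_generate, Presieve.isSheafFor_arrows_iff] at hsheaf
  have hcomp : Presieve.Arrows.Compatible P (fun k => c'.ι.app k) (fun k : Kᵒᵖ => s k.unop) := by
    intro i j T a b hab
    refine sections_ext P hP _ (isEpiFamily_sections T) fun ⟨e, q⟩ => ?_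
    obtain ⟨R, hR, hRx⟩ := eq_of_colimit (J := J) hc' (α := fun e => P.obj (op ((rep J).obj e)))
      (fun {e e'} l z => P.map ((rep J).map l).op z)
      (fun k e z => P.map ((ev J e _).symm z).op (s k.unop))
      (fun {k k'} m e z => by
        show P.map ((ev J e _).symm ((F.leftOp.map m).hom.app (op e) z)).op (s k'.unop) = _
        rw [← ev_symm_comp, op_comp, Functor.map_comp_apply]
        exact congrArg _ (hs m.unop))
      (fun k e e' l z => by
        show P.map ((rep J).map l).op (P.map _ (s k.unop)) = _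
        rw [← ev_symm_map, op_comp, Functor.map_comp_apply]
        rfl)
      (a.hom.app (op e) q) (b.hom.app (op e) q)
      (ConcreteCategory.congr_hom (congrArg (fun m : T ⟶ c'.pt => m.hom.app (op e)) hab) q)
    have key := sections_ext P hP _ (isEpiFamily_covering (J := J) hR) fun p => hRx p.2.2
    show P.map ((ev J e T).symm q).op (P.map a.op (s i.unop)) = P.map ((ev J e T).symm q).op (P.map b.op (s j.unop))
    rw [← Functor.map_comp_apply, ← Functor.map_comp_apply, ← op_comp, ← op_comp, ev_symm_comp, ev_symm_comp]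
    exact key
  obtain ⟨t, ht, htu⟩ := hsheaf _ hcomp
  exact ⟨t, fun k => ht (op k), fun t' ht' => htu t' fun k => ht' k.unop⟩

theorem isSheaf_of_preservesLimit [PreservesLimitsOfSize.{u, u} P] :
    Presieve.IsSheaf (Sheaf.canonicalTopology (Sheaf J (Type u))) P := by
  have hrec : ∀ (X : Sheaf J (Type u)) (ι : Type u) (c : ι → C) (g : ∀ i, (rep J).obj (c i) ⟶ X),
      SGA4.IsEpiFamily g → (∀ a b : P.obj (op X), (∀ i, P.map (g i).op a = P.map (g i).op b) → a = b) ∧
      ∀ y : ∀ i, P.obj (op ((rep J).obj (c i))), (∀ (e : C) (i j : ι) (u : (rep J).obj e ⟶ (rep J).obj (c i))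
        (v : (rep J).obj e ⟶ (rep J).obj (c j)), u ≫ g i = v ≫ g j → P.map u.op (y i) = P.map v.op (y j)) →
        ∃ a, ∀ i, P.map (g i).op a = y i := by
    intro X ι c g hg
    let L := Σ (e : C) (i j : ι), {p : ((rep J).obj e ⟶ (rep J).obj (c i)) × ((rep J).obj e ⟶ (rep J).obj (c j)) //
      p.1 ≫ g i = p.2 ≫ g j}
    let S : MultispanShape.{u, u} := ⟨L, ι, fun l => l.2.1, fun l => l.2.2.1⟩
    let I : MultispanIndex S (Sheaf J (Type u)) :=
      { left := fun l => (rep J).obj l.1
        right := fun i => (rep J).obj (c i)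
        fst := fun l => l.2.2.2.1.1
        snd := fun l => l.2.2.2.1.2 }
    let cf : Multicofork I := Multicofork.ofπ I X g fun l => l.2.2.2.2
    have hex : ∀ E : Multicofork I, ∃ A : X ⟶ E.pt, ∀ i, g i ≫ A = E.π i := fun E =>
      exists_desc g hg (fun i => E.π i) fun V i j t t' h => by
        obtain ⟨u, rfl⟩ := (ev J V.unop _).surjective t
        obtain ⟨v, rfl⟩ := (ev J V.unop _).surjective t'
        have huv : u ≫ g i = v ≫ g j := (ev J V.unop X).injective (by rw [ev_comp, ev_comp]; exact h)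
        exact (ev_comp _ u _).symm.trans ((congrArg _ (E.condition ⟨V.unop, i, j, (u, v), huv⟩)).trans (ev_comp _ v _))
    choose D hD using hex
    have hcf : IsColimit cf := Multicofork.IsColimit.mk cf D hD fun E m hm =>
      hg _ _ _ fun i => (hm i).trans (hD E i).symm
    have hlim := (Types.isLimit_iff _).1 ⟨isLimitOfPreserves P hcf.op⟩
    refine ⟨fun a b hab => ?_, fun y hy => ?_⟩
    · have hs : ∀ (x : (WalkingMultispan S)ᵒᵖ), (P.mapCone cf.op).π.app x a = (P.mapCone cf.op).π.app x b := by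
        rintro ⟨l | i⟩
        · show P.map (I.fst l ≫ g _).op a = P.map (I.fst l ≫ g _).op b
          rw [op_comp, Functor.map_comp_apply, Functor.map_comp_apply, hab]
        · exact hab i
      obtain ⟨z, -, hzu⟩ := hlim (fun x => (P.mapCone cf.op).π.app x a)
        (fun {x x'} m => ConcreteCategory.congr_hom ((P.mapCone cf.op).w m) a)
      exact (hzu a fun x => rfl).trans (hzu b fun x => (hs x).symm).symm
    · let s : ∀ x : (WalkingMultispan S)ᵒᵖ, (I.multispan.op ⋙ P).obj x := fun x =>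
        match x with
        | ⟨.left l⟩ => P.map (I.fst l).op (y l.2.1)
        | ⟨.right i⟩ => y i
      obtain ⟨a, ha, -⟩ := hlim s (by
        rintro ⟨x⟩ ⟨x'⟩ m
        obtain ⟨m, rfl⟩ : ∃ n, m = n.op := ⟨m.unop, rfl⟩
        change x' ⟶ x at m
        cases m with
        | id => exact ConcreteCategory.congr_hom ((I.multispan.op ⋙ P).map_id ⟨x⟩) (s ⟨x⟩)
        | fst l => rfl
        | snd l => exact (hy _ _ _ _ _ l.2.2.2.2).symm)
      exact ⟨a, fun i => ha ⟨.right i⟩⟩
  intro X S hS x hx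
  let ι := Σ c : C, {z : X.obj.obj (op c) // S ((ev J c X).symm z)}
  let g : ∀ i : ι, (rep J).obj i.1 ⟶ X := fun i => (ev J i.1 X).symm i.2.1
  have hall : SGA4.IsEpiFamily fun p : (Σ G : Sheaf J (Type u), {k : G ⟶ X // S k}) => p.2.1 := by
    intro Z a b h
    exact ((Sheaf.isSheaf_yoneda_obj Z) S hS).isSeparatedFor.ext fun G k hk => h ⟨G, k, hk⟩
  have hg : SGA4.IsEpiFamily g := by
    refine isEpiFamily_of_locally g fun V s => ?_
    obtain ⟨R, hR, hRx⟩ := locally_surjective_of_isEpiFamily _ hall V s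
    refine ⟨R, hR, fun W k hk => ?_⟩
    obtain ⟨⟨G, l, hl⟩, t, ht⟩ := hRx hk
    have hmem : S ((ev J W X).symm (X.obj.map k.op s)) := by
      rw [← ht, ← ev_symm_comp]
      exact S.downward_closed hl _
    exact ⟨⟨W, _, hmem⟩, ev J W _ (𝟙 _), by rw [← ev_comp, Category.id_comp, Equiv.apply_symm_apply]⟩
  obtain ⟨hinj, hex⟩ := hrec X ι (fun i => i.1) g hg
  obtain ⟨a, ha⟩ := hex (fun i => x (g i) i.2.2) (fun e i j u v huv => hx u v i.2.2 j.2.2 huv)
  refine ⟨a, fun G k hk => ?_, fun a' ha' => hinj a' a fun i => (ha' (g i) i.2.2).trans (ha i).symm⟩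
  refine (hrec G _ _ _ (isEpiFamily_sections G)).1 _ _ fun ⟨e, q⟩ => ?_
  have hq : S ((ev J e X).symm (k.hom.app (op e) q)) := by
    rw [← ev_symm_comp]
    exact S.downward_closed hk _
  have h2 := hx ((ev J e G).symm q) (𝟙 _) hk hq (by rw [Category.id_comp, ev_symm_comp])
  have h3 := ha ⟨e, k.hom.app (op e) q, hq⟩
  rw [op_id, Functor.map_id_apply] at h2
  show P.map ((ev J e G).symm q).op (P.map k.op a) = P.map ((ev J e G).symm q).op (x k hk)
  rw [h2, ← Functor.map_comp_apply, ← op_comp, ev_symm_comp]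
  exact h3

variable {E : Type v} [Category.{w} E]

/-- Sheaves for the canonical topology of a sheaf topos preserve limits, and conversely. -/
theorem isSheaf_iff_preservesLimits (F : (Sheaf J (Type u))ᵒᵖ ⥤ E) :
    Presheaf.IsSheaf (Sheaf.canonicalTopology (Sheaf J (Type u))) F ↔ PreservesLimitsOfSize.{u, u} F := by
  constructor
  · intro h
    refine ⟨fun {K} _ => ⟨fun {G} => ⟨fun {c} hc => ⟨coyonedaJointlyReflectsLimits _ _ fun X => ?_⟩⟩⟩⟩
    haveI := preservesLimit_of_isSheaf (F ⋙ coyoneda.obj X) (h X.unop)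
    exact isLimitOfPreserves (F ⋙ coyoneda.obj X) hc
  · intro h X
    exact isSheaf_of_preservesLimit (F ⋙ coyoneda.obj (op X))

end Groth.Agent.SheafTopos.Canonical
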