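import Groth.Prelude.Def_SGA4a
import Mathlib.CategoryTheory.Sites.RegularEpi
import Mathlib.CategoryTheory.Limits.VanKampen
import Mathlib.CategoryTheory.Limits.Types.Coproducts
import Mathlib.CategoryTheory.Limits.Types.Pullbacks
import Mathlib.CategoryTheory.Limits.Shapes.DisjointCoproduct
import Mathlib.CategoryTheory.Sites.Limits
import Mathlib.CategoryTheory.Sites.LocallySurjective
import Mathlib.CategoryTheory.Limits.Preserves.Shapes.Pullbacks

/-!
Sheaves of sets on a small site: coproducts and equivalence relations.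
-/

set_option autoImplicit false
set_option linter.style.haveILetI false
set_option backward.defeqAttrib.useBackward true
set_option backward.isDefEq.respectTransparency false

universe u

open CategoryTheory CategoryTheory.Limits Opposite

namespace Groth.Agent.SheafTopos

/-- Coproducts of sets are van Kampen. -/
theorem types_isVanKampen {ι : Type u} {F : Discrete ι ⥤ Type u} (c : Cocone F) (hc : IsColimit c) :
    IsVanKampenColimit c := by
  intro F' c' α f e hα
  have hbij := (Types.isColimit_iff_coconeTypesIsColimit c).1 ⟨hc⟩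
  have hsurj : ∀ x : c.pt, ∃ (i : ι) (y : F.obj ⟨i⟩), c.ι.app ⟨i⟩ y = x := fun x => by
    obtain ⟨⟨i⟩, y, hy⟩ := Types.jointly_surjective_of_isColimit hc x
    exact ⟨i, y, hy⟩
  have hsep : ∀ (i j : ι) (x : F.obj ⟨i⟩) (y : F.obj ⟨j⟩), c.ι.app ⟨i⟩ x = c.ι.app ⟨j⟩ y →
      ∃ h : i = j, h ▸ x = y := by
    intro i j x y h
    let d : Cocone F :=
      { pt := Σ k : ι, F.obj ⟨k⟩
        ι := Discrete.natTrans fun k => ↾fun z => ⟨k.as, z⟩ }
    have h' : (⟨i, x⟩ : Σ k : ι, F.obj ⟨k⟩) = ⟨j, y⟩ := by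
      have e1 := ConcreteCategory.congr_hom (hc.fac d ⟨i⟩) x
      have e2 := ConcreteCategory.congr_hom (hc.fac d ⟨j⟩) y
      exact e1.symm.trans ((congrArg (fun z => hc.desc d z) h).trans e2)
    obtain ⟨rfl, h2⟩ := Sigma.mk.inj_iff.1 h'
    exact ⟨rfl, eq_of_heq h2⟩
  have he : ∀ (i : ι) (x : F'.obj ⟨i⟩), f (c'.ι.app ⟨i⟩ x) = c.ι.app ⟨i⟩ (α.app ⟨i⟩ x) := fun i x =>
    (ConcreteCategory.congr_hom (NatTrans.congr_app e ⟨i⟩) x).symm
  constructor
  · rintro ⟨hc'⟩ ⟨i⟩
    rw [Types.isPullback_iff]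
    refine ⟨(NatTrans.congr_app e ⟨i⟩).symm, ?_, ?_⟩
    · rintro x y ⟨h1, -⟩
      let d : Cocone F' :=
        { pt := Σ k : ι, F'.obj ⟨k⟩
          ι := Discrete.natTrans fun k => ↾fun z => ⟨k.as, z⟩ }
      have h' : (⟨i, x⟩ : Σ k : ι, F'.obj ⟨k⟩) = ⟨i, y⟩ :=
        (ConcreteCategory.congr_hom (hc'.fac d ⟨i⟩) x).symm.trans
          ((congrArg (fun z => hc'.desc d z) h1).trans (ConcreteCategory.congr_hom (hc'.fac d ⟨i⟩) y))
      exact eq_of_heq (Sigma.mk.inj_iff.1 h').2
    · intro t x hx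
      obtain ⟨⟨j⟩, y, rfl⟩ := Types.jointly_surjective_of_isColimit hc' t
      obtain ⟨rfl, h2⟩ := hsep j i _ x ((he j y).symm.trans hx)
      exact ⟨y, rfl, h2⟩
  · intro H
    have hf := fun i => ((Types.isPullback_iff _ _ _ _).1 (H ⟨i⟩))
    choose ti tx tt htx using fun t : c'.pt =>
      show ∃ (i : ι) (x : F.obj ⟨i⟩) (z : F'.obj ⟨i⟩), c'.ι.app ⟨i⟩ z = t by
        obtain ⟨i, x, hx⟩ := hsurj (f t)
        obtain ⟨z, hz, -⟩ := (hf i).2.2 t x hx.symm
        exact ⟨i, x, z, hz⟩
    refine ⟨{ desc := fun s => ↾fun t => s.ι.app ⟨ti t⟩ (tt t), fac := fun s j => ?_, uniq := fun s m hm => ?_ }⟩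
    · obtain ⟨j⟩ := j
      ext z
      have key : ∀ (i : ι) (z' : F'.obj ⟨i⟩), c'.ι.app ⟨i⟩ z' = c'.ι.app ⟨j⟩ z →
          s.ι.app ⟨i⟩ z' = s.ι.app ⟨j⟩ z := by
        intro i z' h
        obtain ⟨rfl, h2⟩ := hsep i j _ _ ((he i z').symm.trans ((congrArg f h).trans (he j z)))
        rw [(hf i).2.1 z' z ⟨h, h2⟩]
      exact key _ _ (htx _)
    · ext t
      exact (congrArg m (htx t)).symm.trans (ConcreteCategory.congr_hom (hm ⟨ti t⟩) (tt t))

variable {C : Type u} [SmallCategory C] (J : GrothendieckTopology C)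

theorem presheaf_isVanKampen {ι : Type u} {F : Discrete ι ⥤ Cᵒᵖ ⥤ Type u} (c : Cocone F) (hc : IsColimit c) :
    IsVanKampenColimit c :=
  isVanKampenColimit_of_evaluation F c fun V =>
    types_isVanKampen _ (isColimitOfPreserves ((evaluation Cᵒᵖ (Type u)).obj V) hc)

/-- Coproducts of sheaves of sets are disjoint and universal. -/
theorem hasDisjointUniversalCoproducts :
    SGA4.HasDisjointUniversalCoproducts.{u + 1, u} (Sheaf J (Type u)) := by
  intro ι X
  let F := Discrete.functor X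
  let c₀ : Cocone (F ⋙ sheafToPresheaf J (Type u)) := colimit.cocone _
  have h₀ := presheaf_isVanKampen c₀ (colimit.isColimit _)
  have h₁ : IsVanKampenColimit ((presheafToSheaf J (Type u)).mapCocone c₀) :=
    IsVanKampenColimit.map_reflective (sheafificationAdjunction J (Type u)) h₀
  let e : F ≅ (F ⋙ sheafToPresheaf J (Type u)) ⋙ presheafToSheaf J (Type u) :=
    (Functor.isoWhiskerLeft F (asIso (sheafificationAdjunction J (Type u)).counit) ≪≫ F.rightUnitor).symm ≪≫
      (Functor.associator _ _ _).symm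
  let c : Cofan X := (Cocone.precompose e.hom).obj ((presheafToSheaf J (Type u)).mapCocone c₀)
  have hv : IsVanKampenColimit c := h₁.precompose_isIso e.hom
  have hc : IsColimit c := hv.isColimit
  haveI : ∀ i, Mono (c.inj i) := fun i => mono_of_cofan_isVanKampen hv ⟨i⟩
  refine ⟨c, hc, CoproductDisjoint.of_cofan hc
    (fun {i j} hij => (isPullback_initial_to_of_cofan_isVanKampen hv ⟨i⟩ ⟨j⟩ (by simpa using hij)).cone)
    (fun {i j} hij => (isPullback_initial_to_of_cofan_isVanKampen hv ⟨i⟩ ⟨j⟩ (by simpa using hij)).isLimit)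
    (fun _ => initialIsInitial), hv.isUniversal⟩

/-- Pullbacks of epimorphisms of sheaves of sets are epimorphisms. -/
theorem epi_pullback_snd {A B B' : Sheaf J (Type u)} (π : A ⟶ B) [Epi π] (g : B' ⟶ B) :
    Epi (pullback.snd π g) := by
  rw [← Sheaf.isLocallySurjective_iff_epi]
  have hπ : Sheaf.IsLocallySurjective π := (Sheaf.isLocallySurjective_iff_epi π).2 inferInstance
  have sq : ∀ W : Cᵒᵖ, IsPullback ((pullback.fst π g).hom.app W) ((pullback.snd π g).hom.app W)
      (π.hom.app W) (g.hom.app W) := fun W =>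
    ((IsPullback.of_hasPullback π g).map (sheafToPresheaf J (Type u))).map ((evaluation Cᵒᵖ (Type u)).obj W)
  refine ⟨fun {V} b => J.superset_covering ?_ (Presheaf.imageSieve_mem J π.hom (g.hom.app _ b))⟩
  intro W k ⟨a, ha⟩
  obtain ⟨z, -, hz⟩ := Types.exists_of_isPullback (sq (op W)) a (B'.obj.map k.op b)
    (ha.trans (ConcreteCategory.congr_hom (g.hom.naturality k.op) b).symm)
  exact ⟨z, hz⟩

/-- Equivalence relations of sheaves of sets are effective and universal. -/
theorem isEffectiveUniversalEquivRel (R A : Sheaf J (Type u)) (p₁ p₂ : R ⟶ A)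
    (h : SGA4.IsEquivRel p₁ p₂) : SGA4.IsEffectiveUniversalEquivRel p₁ p₂ := by
  let fr : ∀ V : C, Sheaf J (Type u) := fun V => (presheafToSheaf J (Type u)).obj (yoneda.obj V)
  let ev : ∀ (V : C) (F : Sheaf J (Type u)), (fr V ⟶ F) ≃ F.obj.obj (op V) := fun V F =>
    ((sheafificationAdjunction J (Type u)).homEquiv _ F).trans yonedaEquiv
  have hev : ∀ (V : C) {F G : Sheaf J (Type u)} (φ : fr V ⟶ F) (q : F ⟶ G),
      ev V G (φ ≫ q) = q.hom.app (op V) (ev V F φ) := fun V F G φ q => by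
    simp only [ev, Equiv.trans_apply, Adjunction.homEquiv_naturality_right, yonedaEquiv_comp]
    rfl
  have hinj : ∀ (V : Cᵒᵖ) (x y : R.obj.obj V), p₁.hom.app V x = p₁.hom.app V y →
      p₂.hom.app V x = p₂.hom.app V y → x = y := by
    intro V x y h1 h2
    obtain ⟨a, rfl⟩ := (ev V.unop R).surjective x
    obtain ⟨b, rfl⟩ := (ev V.unop R).surjective y
    refine congrArg _ ((h (fr V.unop)).1 (Prod.ext ((ev V.unop A).injective ?_) ((ev V.unop A).injective ?_)))
    · exact (hev _ a p₁).trans (h1.trans (hev _ b p₁).symm)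
    · exact (hev _ a p₂).trans (h2.trans (hev _ b p₂).symm)
  let r : ∀ V : Cᵒᵖ, A.obj.obj V → A.obj.obj V → Prop := fun V a b =>
    ∃ x, p₁.hom.app V x = a ∧ p₂.hom.app V x = b
  have hequiv : ∀ V, Equivalence (r V) := by
    intro V
    have he := (h (fr V.unop)).2
    have conv : ∀ a b, r V (ev V.unop A a) (ev V.unop A b) ↔ ∃ f, f ≫ p₁ = a ∧ f ≫ p₂ = b := by
      intro a b
      constructor
      · rintro ⟨x, h1, h2⟩
        obtain ⟨f, rfl⟩ := (ev V.unop R).surjective x
        exact ⟨f, (ev V.unop A).injective ((hev _ f p₁).trans h1), (ev V.unop A).injective ((hev _ f p₂).trans h2)⟩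
      · rintro ⟨f, rfl, rfl⟩
        exact ⟨ev _ _ f, (hev _ f p₁).symm, (hev _ f p₂).symm⟩
    refine ⟨fun a => ?_, fun {a b} hab => ?_, fun {a b c} hab hbc => ?_⟩
    · obtain ⟨a, rfl⟩ := (ev V.unop A).surjective a
      exact (conv a a).2 (he.refl a)
    · obtain ⟨a, rfl⟩ := (ev V.unop A).surjective a
      obtain ⟨b, rfl⟩ := (ev V.unop A).surjective b
      exact (conv b a).2 (he.symm ((conv a b).1 hab))
    · obtain ⟨a, rfl⟩ := (ev V.unop A).surjective a
      obtain ⟨b, rfl⟩ := (ev V.unop A).surjective b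
      obtain ⟨c, rfl⟩ := (ev V.unop A).surjective c
      exact (conv a c).2 (he.trans ((conv a b).1 hab) ((conv b c).1 hbc))
  have hmap : ∀ {V W : Cᵒᵖ} (k : V ⟶ W) {a b}, r V a b → r W (A.obj.map k a) (A.obj.map k b) := by
    rintro V W k a b ⟨x, rfl, rfl⟩
    exact ⟨R.obj.map k x, ConcreteCategory.congr_hom (p₁.hom.naturality k) x,
      ConcreteCategory.congr_hom (p₂.hom.naturality k) x⟩
  let Q : Cᵒᵖ ⥤ Type u :=
    { obj := fun V => Quot (r V)
      map := fun k => ↾(Quot.map (A.obj.map k) fun a b hab => hmap k hab)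
      map_id := fun V => by ext ⟨a⟩; simp [Quot.map]
      map_comp := fun k l => by ext ⟨a⟩; simp [Quot.map] }
  let q : A.obj ⟶ Q := { app := fun V => ↾(Quot.mk (r V)), naturality := fun V W k => rfl }
  have w : p₁.hom ≫ q = p₂.hom ≫ q := by
    ext V x
    exact Quot.sound ⟨x, rfl, rfl⟩
  have hpb : IsPullback p₁.hom p₂.hom q q := IsPullback.of_forall_isPullback_app fun V => by
    rw [Types.isPullback_iff]
    refine ⟨NatTrans.congr_app w V, fun x y hxy => hinj V x y hxy.1 hxy.2, fun a b hab => ?_⟩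
    exact ((hequiv V).eqvGen_iff).1 (Quot.eqvGen_exact hab)
  have hpo : IsPushout p₁.hom p₂.hom q q := IsPushout.of_forall_isPushout_app fun V => by
    refine IsPushout.of_isColimit' ⟨NatTrans.congr_app w V⟩
      (PushoutCocone.IsColimit.mk _ (fun s => ↾(Quot.lift (fun a => s.inl a) ?_)) ?_ ?_ ?_)
    · rintro a b ⟨x, rfl, rfl⟩
      obtain ⟨y, h1, h2⟩ := (hequiv V).refl (p₂.hom.app V x)
      have e1 := ConcreteCategory.congr_hom s.condition x
      have e2 := ConcreteCategory.congr_hom s.condition y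
      simp only [CategoryTheory.comp_apply, h1, h2] at e1 e2
      exact e1.trans e2.symm
    · intro s
      rfl
    · intro s
      ext a
      obtain ⟨y, h1, h2⟩ := (hequiv V).refl a
      have e2 := ConcreteCategory.congr_hom s.condition y
      simp only [CategoryTheory.comp_apply, h1, h2] at e2
      exact e2
    · intro s m hm₁ hm₂
      ext ⟨a⟩
      exact ConcreteCategory.congr_hom hm₁ a
  let adj := sheafificationAdjunction J (Type u)
  let eR : (presheafToSheaf J (Type u)).obj R.obj ≅ R := (asIso adj.counit).app R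
  let eA : (presheafToSheaf J (Type u)).obj A.obj ≅ A := (asIso adj.counit).app A
  let π : A ⟶ (presheafToSheaf J (Type u)).obj Q := eA.inv ≫ (presheafToSheaf J (Type u)).map q
  have n₁ : (presheafToSheaf J (Type u)).map p₁.hom ≫ eA.hom = eR.hom ≫ p₁ := adj.counit.naturality p₁
  have n₂ : (presheafToSheaf J (Type u)).map p₂.hom ≫ eA.hom = eR.hom ≫ p₂ := adj.counit.naturality p₂
  have hpb' : IsPullback p₁ p₂ π π :=
    (hpb.map (presheafToSheaf J (Type u))).of_iso eR eA eA (Iso.refl _) n₁ n₂ (by simp [π]) (by simp [π])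
  have hpo' : IsPushout p₁ p₂ π π :=
    (hpo.map (presheafToSheaf J (Type u))).of_iso eR eA eA (Iso.refl _) n₁ n₂ (by simp [π]) (by simp [π])
  haveI : Epi q := by
    haveI : ∀ V, Epi (q.app V) := fun V => (epi_iff_surjective _).2 fun x => Quot.exists_rep x
    exact NatTrans.epi_of_epi_app _
  haveI : Epi π := epi_comp _ _
  refine ⟨_, π, hpb', hpo', fun B' g => ?_⟩
  haveI := epi_pullback_snd J π g
  haveI : IsRegularEpi (pullback.snd π g) := IsRegularEpiCategory.regularEpiOfEpi _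
  infer_instance

end Groth.Agent.SheafTopos
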