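import Groth.Agent.SheafTopos.SheafifiedCofan
import Mathlib.CategoryTheory.Sites.Canonical
import Mathlib.CategoryTheory.Limits.VanKampen

/-!
Coproducts and quotients in a category seen through its canonical topology.
-/

set_option autoImplicit false
set_option linter.style.haveILetI false
set_option backward.defeqAttrib.useBackward true
set_option backward.isDefEq.respectTransparency false

universe u

open CategoryTheory CategoryTheory.Limits Opposite

namespace Groth.Agent.SheafTopos.CanonicalCofan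

open InverseImage SheafifiedCofan

variable {C : Type u} [SmallCategory C]

local notation "can" => Sheaf.canonicalTopology C

variable {X : C} {ι : Type u} {Y : ι → C} {s : ∀ i, Y i ⟶ X} [∀ (i : ι) (Z : C) (g : Z ⟶ X), HasPullback (s i) g]

theorem isColimit_baseChange (huniv : IsUniversalColimit (Cofan.mk X s)) {Z : C} (f : Z ⟶ X) :
    Nonempty (IsColimit (Cofan.mk Z fun i => pullback.snd (s i) f)) := by
  refine huniv (Cofan.mk Z fun i => pullback.snd (s i) f) (Discrete.natTrans fun i => pullback.fst (s i.as) f) f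
    ?_ (NatTrans.Equifibered.of_discrete _) fun j => ?_
  · refine NatTrans.ext (funext fun i => ?_)
    exact pullback.condition
  · exact (IsPullback.of_hasPullback (s j.as) f).flip

theorem cofan_mem_canonical (huniv : IsUniversalColimit (Cofan.mk X s)) :
    Sieve.ofArrows Y s ∈ can X := by
  refine Sheaf.mem_finestTopology_of_forall_isSheafFor ?_
  rintro _ ⟨W, rfl⟩ Z f x hx
  obtain ⟨hc⟩ := isColimit_baseChange huniv f
  have hmem : ∀ i, (Sieve.ofArrows Y s).pullback f (pullback.snd (s i) f) := fun i =>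
    (Sieve.mem_ofArrows_iff Y s _).2 ⟨i, pullback.fst (s i) f, pullback.condition.symm⟩
  obtain ⟨A, hA⟩ : ∃ A : Z ⟶ W, ∀ i, pullback.snd (s i) f ≫ A = x _ (hmem i) :=
    ⟨Cofan.IsColimit.desc hc fun i => x _ (hmem i), fun i => Cofan.IsColimit.fac hc _ i⟩
  refine ⟨A, fun T k hk => ?_, fun A' hA' => ?_⟩
  · obtain ⟨i, a, ha⟩ := (Sieve.mem_ofArrows_iff Y s _).1 hk
    have hl := hx (pullback.lift a k ha.symm) (𝟙 T) (hmem i) hk (by simp)
    show k ≫ A = x k hk
    have hl' : pullback.lift a k ha.symm ≫ x _ (hmem i) = 𝟙 T ≫ x k hk := hl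
    rw [Category.id_comp] at hl'
    rw [← hl', ← hA, pullback.lift_snd_assoc]
  · refine Cofan.IsColimit.hom_ext hc _ _ fun i => ?_
    exact (hA' _ (hmem i)).trans (hA i).symm

theorem bot_mem_canonical (huniv : IsUniversalColimit (Cofan.mk X s)) (hd : CoproductDisjoint Y)
    (hc : IsColimit (Cofan.mk X s)) {i j : ι} (hij : i ≠ j) :
    (⊥ : Sieve (pullback (s i) (s j))) ∈ can (pullback (s i) (s j)) := by
  classical
  refine Sheaf.mem_finestTopology_of_forall_isSheafFor ?_
  rintro _ ⟨W, rfl⟩ Z f x hx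
  let hI : IsInitial (pullback (s i) (s j)) := IsInitial.ofCoproductDisjointOfIsColimit hij hc
  let z : Z ⟶ X := f ≫ pullback.fst (s i) (s j) ≫ s i
  obtain ⟨hz⟩ := isColimit_baseChange huniv z
  haveI : ∀ k, Mono (s k) := fun k => Mono.of_coproductDisjoint hc k
  refine ⟨f ≫ hI.to W, fun T k hk => hk.elim, fun A _ => ?_⟩
  change Z ⟶ W at A
  let li : Z ⟶ pullback (s i) z := pullback.lift (f ≫ pullback.fst _ _) (𝟙 Z) (by simp [z])
  let lj : Z ⟶ pullback (s j) z := pullback.lift (f ≫ pullback.snd _ _) (𝟙 Z) (by simp [z, pullback.condition])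
  let b : ∀ k, pullback (s k) z ⟶ W := fun k =>
    if k = i then pullback.snd (s k) z ≫ A else pullback.snd (s k) z ≫ f ≫ hI.to W
  let D : Z ⟶ W := Cofan.IsColimit.desc hz b
  have d1 : pullback.snd (s i) z ≫ D = b i := Cofan.IsColimit.fac hz b i
  have d2 : pullback.snd (s j) z ≫ D = b j := Cofan.IsColimit.fac hz b j
  have h1 := congrArg (li ≫ ·) d1
  have h2 := congrArg (lj ≫ ·) d2
  simp only [b, if_pos rfl, if_neg hij.symm, li, lj, pullback.lift_snd_assoc, Category.id_comp] at h1 h2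
  exact h1.symm.trans h2

/-- The coproduct criterion for the canonical topology. -/
theorem cofan_iff_disjoint_universal :
    Nonempty (IsColimit (Cofan.mk ((rep (can)).obj X) fun i => (rep (can)).map (s i))) ↔
      (Nonempty (IsColimit (Cofan.mk X s)) ∧ CoproductDisjoint Y ∧ IsUniversalColimit (Cofan.mk X s)) := by
  constructor
  · rintro ⟨h⟩
    have hc : IsColimit (Cofan.mk X s) :=
      isColimitOfReflects (rep (can)) ((isColimitMapCoconeCofanMkEquiv (rep (can)) _ s).symm h)
    obtain ⟨-, h₂, h₃⟩ := mono_and_disjoint _ h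
    refine ⟨⟨hc⟩, ?_, ?_⟩
    · haveI : ∀ i, Mono ((Cofan.mk X s).inj i) := fun i => by
        haveI := h₂ i
        exact (rep (can)).mono_of_mono_map this
      refine CoproductDisjoint.of_cofan hc (fun {i j} _ => pullback.cone (s i) (s j))
        (fun {i j} _ => pullback.isLimit (s i) (s j)) fun {i j} hij => ?_
      exact IsInitial.isInitialOfObj (rep (can)) _ (IsInitial.ofIso (h₃ i j hij).some
        (((IsPullback.of_hasPullback (s i) (s j)).map yoneda).map (presheafToSheaf (can) (Type u))).isoPullback.symm)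
    · intro F' c' α f e hα hpb
      have hv := GluedTopos.isVanKampen_sheaf (can) ((isColimitMapCoconeCofanMkEquiv (rep (can)) _ s).symm h)
      obtain ⟨h'⟩ := hv.isUniversal ((rep (can)).mapCocone c') (Functor.whiskerRight α _) ((rep (can)).map f)
        (by refine NatTrans.ext (funext fun k => ?_)
            simpa [← Functor.map_comp] using congrArg (rep (can)).map (NatTrans.congr_app e k))
        (NatTrans.Equifibered.of_discrete _)
        fun j => ((hpb j).map yoneda).map (presheafToSheaf (can) (Type u))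
      exact ⟨isColimitOfReflects (rep (can)) h'⟩
  · rintro ⟨⟨hc⟩, hd, huniv⟩
    exact cofan_of_disjoint (cofan_mem_canonical huniv) (fun i => Mono.of_coproductDisjoint hc i)
      fun i j hij => bot_mem_canonical huniv hd hc hij

/-- Yoneda preserves equivalence relations. -/
theorem yonedaRel [HasPullbacks C] {R A : C} (p₁ p₂ : R ⟶ A) (h : SGA4.IsEquivRel p₁ p₂) :
    SGA4.IsEquivRel (yoneda.map p₁) (yoneda.map p₂) := by
  obtain ⟨r, hr₁, hr₂⟩ := ((h A).2.refl (𝟙 A) : ∃ f, f ≫ p₁ = 𝟙 A ∧ f ≫ p₂ = 𝟙 A)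
  obtain ⟨s, hs₁, hs₂⟩ := (h R).2.symm (⟨𝟙 R, Category.id_comp _, Category.id_comp _⟩ : ∃ f, f ≫ p₁ = p₁ ∧ f ≫ p₂ = p₂)
  obtain ⟨t, ht₁, ht₂⟩ := (h (pullback p₂ p₁)).2.trans
    (⟨pullback.fst p₂ p₁, rfl, rfl⟩ : ∃ f, f ≫ p₁ = pullback.fst p₂ p₁ ≫ p₁ ∧ f ≫ p₂ = pullback.fst p₂ p₁ ≫ p₂)
    (⟨pullback.snd p₂ p₁, pullback.condition.symm, rfl⟩ :
      ∃ f, f ≫ p₁ = pullback.fst p₂ p₁ ≫ p₂ ∧ f ≫ p₂ = pullback.snd p₂ p₁ ≫ p₂)
  intro T
  refine ⟨fun a b hab => ?_, fun a => ⟨a ≫ yoneda.map r, ?_, ?_⟩, ?_, ?_⟩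
  · obtain ⟨e1, e2⟩ := Prod.ext_iff.1 hab
    refine NatTrans.ext (funext fun V => ?_)
    ext x
    exact (h V.unop).1 (Prod.ext (ConcreteCategory.congr_hom (NatTrans.congr_app e1 V) x)
      (ConcreteCategory.congr_hom (NatTrans.congr_app e2 V) x))
  · rw [Category.assoc, ← yoneda.map_comp, hr₁, yoneda.map_id, Category.comp_id]
  · rw [Category.assoc, ← yoneda.map_comp, hr₂, yoneda.map_id, Category.comp_id]
  · rintro a b ⟨f, rfl, rfl⟩
    exact ⟨f ≫ yoneda.map s, by rw [Category.assoc, ← yoneda.map_comp, hs₁],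
      by rw [Category.assoc, ← yoneda.map_comp, hs₂]⟩
  · rintro a b c ⟨f, rfl, hf⟩ ⟨g, hg, rfl⟩
    have sq := (IsPullback.of_hasPullback p₂ p₁).map yoneda
    have hw : f ≫ yoneda.map p₂ = g ≫ yoneda.map p₁ := hf.trans hg.symm
    refine ⟨sq.lift f g hw ≫ yoneda.map t, ?_, ?_⟩
    · rw [Category.assoc, ← yoneda.map_comp, ht₁, yoneda.map_comp, sq.lift_fst_assoc]
    · rw [Category.assoc, ← yoneda.map_comp, ht₂, yoneda.map_comp, sq.lift_snd_assoc]

theorem cofork_inl_eq_inr {R A : C} {p₁ p₂ : R ⟶ A} (h : SGA4.IsEquivRel p₁ p₂) (t : PushoutCocone p₁ p₂) :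
    t.inl = t.inr := by
  obtain ⟨r, hr₁, hr₂⟩ := ((h A).2.refl (𝟙 A) : ∃ f, f ≫ p₁ = 𝟙 A ∧ f ≫ p₂ = 𝟙 A)
  have h1 := congrArg (r ≫ ·) t.condition
  simpa [reassoc_of% hr₁, reassoc_of% hr₂] using h1

/-- Effective universality of a quotient can be tested after sheafification. -/
theorem equivRel_iff [HasPullbacks C] {R A : C} (p₁ p₂ : R ⟶ A) (hR : SGA4.IsEquivRel p₁ p₂)
    (c : Cofork p₁ p₂) (hc : IsColimit c) :
    SGA4.IsEffectiveUniversalEquivRel p₁ p₂ ↔ Nonempty (IsColimit ((rep (can)).mapCocone c)) := by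
  have hπ : p₁ ≫ c.π = p₂ ≫ c.π := c.condition
  constructor
  · rintro ⟨B, π, hpb, hpo, heff⟩
    let hc' : IsColimit (Cofork.ofπ π hpo.w : Cofork p₁ p₂) := Cofork.IsColimit.mk' _ fun t =>
      ⟨hpo.desc t.π t.π t.condition, hpo.inl_desc _ _ _, fun hm => hpo.hom_ext
        (hm.trans (hpo.inl_desc _ _ _).symm) (hm.trans (hpo.inr_desc t.π t.π t.condition).symm)⟩
    have hepi : Sieve.ofArrows (fun _ : PUnit.{u + 1} => A) (fun _ => π) ∈ can B := by
      refine Sheaf.mem_finestTopology_of_forall_isSheafFor ?_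
      rintro _ ⟨W, rfl⟩ Z f x hx
      have hmem : (Sieve.ofArrows (fun _ : PUnit.{u + 1} => A) (fun _ => π)).pullback f (pullback.snd π f) :=
        (Sieve.mem_ofArrows_iff _ _ _).2 ⟨⟨⟩, pullback.fst π f, pullback.condition.symm⟩
      haveI := heff Z f
      refine ⟨EffectiveEpi.desc (pullback.snd π f) (x _ hmem) fun {T} g₁ g₂ hg => hx g₁ g₂ hmem hmem hg,
        fun T k hk => ?_, fun A' hA' => EffectiveEpi.uniq (pullback.snd π f) _ _ _ (hA' _ hmem)⟩
      obtain ⟨-, a, ha⟩ := (Sieve.mem_ofArrows_iff _ _ _).1 hk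
      have hl : pullback.lift a k ha.symm ≫ x _ hmem = 𝟙 T ≫ x k hk :=
        hx (pullback.lift a k ha.symm) (𝟙 T) hmem hk (by simp)
      show k ≫ _ = x k hk
      rw [Category.id_comp] at hl
      exact (pullback.lift_snd_assoc a k ha.symm _).symm.trans
        ((congrArg (pullback.lift a k ha.symm ≫ ·) (EffectiveEpi.fac (pullback.snd π f) (x _ hmem) _)).trans hl)
    haveI : Epi ((rep (can)).map π) := ⟨fun a b h => isEpiFamily_of_mem hepi _ a b fun _ => h⟩
    have hk := GluedTopos.isPushout_of_epi (can) (hpb.map (rep (can)))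
    have hS : IsColimit (Cofork.ofπ ((rep (can)).map π) hk.w) := Cofork.IsColimit.mk' _ fun t =>
      ⟨hk.desc t.π t.π t.condition, hk.inl_desc _ _ _, fun hm => hk.hom_ext
        (hm.trans (hk.inl_desc _ _ _).symm) (hm.trans (hk.inr_desc t.π t.π t.condition).symm)⟩
    exact ⟨IsColimit.ofIsoColimit ((isColimitMapCoconeCoforkEquiv (rep (can)) hpo.w).symm hS)
      ((Cocone.functoriality _ (rep (can))).mapIso (hc'.uniqueUpToIso hc))⟩
  · rintro ⟨h⟩
    have h' : IsColimit (Cofork.ofπ ((rep (can)).map c.π)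
        (by rw [← Functor.map_comp, ← Functor.map_comp, hπ]) : Cofork ((rep (can)).map p₁) ((rep (can)).map p₂)) :=
      isColimitMapCoconeCoforkEquiv (rep (can)) hπ (IsColimit.ofIsoColimit h
        ((Cocone.functoriality _ (rep (can))).mapIso (Cofork.isoCoforkOfπ c)))
    haveI : PreservesFiniteLimits (presheafToSheaf (can) (Type u)) := inferInstance
    have hR' : SGA4.IsEquivRel ((rep (can)).map p₁) ((rep (can)).map p₂) := by
      refine GluedTopos.isEquivRel_map (presheafToSheaf (can) (Type u)) ?_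
      exact yonedaRel p₁ p₂ hR
    obtain ⟨B, q, hq₁, hq₂, -⟩ := SheafTopos.isEffectiveUniversalEquivRel (can) _ _ _ _ hR'
    let hcq : IsColimit (Cofork.ofπ q hq₂.w : Cofork ((rep (can)).map p₁) ((rep (can)).map p₂)) :=
      Cofork.IsColimit.mk' _ fun t => ⟨hq₂.desc t.π t.π t.condition, hq₂.inl_desc _ _ _, fun hm => hq₂.hom_ext
        (hm.trans (hq₂.inl_desc _ _ _).symm) (hm.trans (hq₂.inr_desc t.π t.π t.condition).symm)⟩
    let e := IsColimit.coconePointUniqueUpToIso hcq h'
    have he : q ≫ e.hom = (rep (can)).map c.π :=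
      IsColimit.comp_coconePointUniqueUpToIso_hom hcq h' WalkingParallelPair.one
    have hpbS : IsPullback ((rep (can)).map p₁) ((rep (can)).map p₂) ((rep (can)).map c.π) ((rep (can)).map c.π) :=
      hq₁.of_iso (Iso.refl _) (Iso.refl _) (Iso.refl _) e (by simp) (by simp) (by simp [he]) (by simp [he])
    have hpb : IsPullback p₁ p₂ c.π c.π := IsPullback.of_map (rep (can)) hπ hpbS
    refine ⟨c.pt, c.π, hpb, IsPushout.of_isColimit' ⟨hπ⟩ (PushoutCocone.IsColimit.mk _
      (fun t => Cofork.IsColimit.desc hc t.inl (t.condition.trans ?_))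
      (fun t => Cofork.IsColimit.π_desc' hc _ _) (fun t => ?_) fun t m h1 _ => ?_), fun B' g => ?_⟩
    · rw [cofork_inl_eq_inr hR t]
    · rw [Cofork.IsColimit.π_desc', cofork_inl_eq_inr hR t]
    · exact Cofork.IsColimit.hom_ext hc (h1.trans (Cofork.IsColimit.π_desc' hc _ _).symm)
    · haveI : Epi ((rep (can)).map c.π) := epi_of_isColimit_cofork h'
      let k := pullback.snd c.π g
      have hk := IsPullback.of_hasPullback k k
      haveI := SheafTopos.epi_pullback_snd (can) ((rep (can)).map c.π) ((rep (can)).map g)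
      haveI : Epi ((rep (can)).map k) := by
        rw [← ((IsPullback.of_hasPullback c.π g).map (rep (can))).isoPullback_hom_snd]
        exact epi_comp _ _
      have hk' := GluedTopos.isPushout_of_epi (can) (hk.map (rep (can)))
      have hp := IsPushout.of_map (rep (can)) hk.w hk'
      exact ⟨⟨{ desc := fun {W} e he => hp.desc e e (he _ _ hk.w)
                fac := fun {W} e he => hp.inl_desc e e (he _ _ hk.w)
                uniq := fun {W} e he m hm => hp.hom_ext (hm.trans (hp.inl_desc e e (he _ _ hk.w)).symm)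
                  (hm.trans (hp.inr_desc e e (he _ _ hk.w)).symm) }⟩⟩

end Groth.Agent.SheafTopos.CanonicalCofan
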